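import Mathlib
import Cfsg.Agent.Lib.LieTwisted.ReeGroup

/-!
The small Ree groups are two-generated: by a generator of the torus and `u n₀`.
-/

set_option autoImplicit false
set_option linter.unusedSectionVars false

namespace Cfsg.Agent.Lib.ReeTwoGen49

open Cfsg.Lie Cfsg.Agent.Lib.LieTwisted.Ree
open scoped MatrixGroups

variable {K : Type*} [Field K] [CharP K 3] [Fintype K] {m : ℕ} (hK : Fintype.card K = 3 ^ (2 * m + 1))

include hK

theorem coords {t u v t' u' v' a b c : K} (h : reeU m t u v * reeU m t' u' v' = reeU m a b c) :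
    a = t + t' ∧ b = -((t' ^ 3 ^ m) ^ 3 * t) + (u + u') := by
  rw [reeU, reeU, reeU, ordP_mul] at h
  obtain ⟨-, h1, -, -, h2, -⟩ := ordP_inj h
  exact ⟨h1.symm, h2.symm⟩

theorem cube (t u v : K) :
    reeU m t u v * reeU m t u v * reeU m t u v = reeU m 0 0 (-((t ^ 3 ^ m) ^ 3 * t ^ 2)) := by
  have hmem : reeU m t u v ∈ chevG2.posUnipotent K ⊓ Cfsg.Lie.twistedG2 K (3 ^ m) :=
    (mem_pos_twisted hK _).2 ⟨_, _, _, rfl⟩
  obtain ⟨a, b, c, e⟩ := (mem_pos_twisted hK _).1 (mul_mem (mul_mem hmem hmem) hmem)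
  rw [e]
  rw [reeU, reeU, ordP_cube] at e
  obtain ⟨-, h1, -, -, h2, h3⟩ := ordP_inj e
  rw [← h1, ← h2, ← h3]

theorem layer_one {t : K} (ht : t ≠ 0) :
    ∃ y : Kˣ, ((y : K) ^ 2 / ((y : K) ^ 3 ^ m) ^ 3) = t := by
  classical
  let f : Kˣ →* Kˣ := MonoidHom.mk' (fun y => y ^ 2 / (y ^ 3 ^ m) ^ 3) fun a b => by
    simp only [mul_pow, mul_div_mul_comm]
  have hinj : Function.Injective f := by
    rw [injective_iff_map_eq_one]
    intro y hy
    have hy' : (y : K) ^ 2 / ((y : K) ^ 3 ^ m) ^ 3 = 1 := by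
      have h := congrArg Units.val hy
      simpa [f, Units.val_div_eq_div_val] using h
    by_contra hne
    by_cases h2 : (y : K) = -1
    · rw [h2, ((by decide : Odd 3).pow (n := m)).neg_one_pow] at hy'
      have h3 : (3 : K) = 0 := CharP.cast_eq_zero K 3
      norm_num at hy'
      exact one_ne_zero (show (1 : K) = 0 by linear_combination h3 + hy')
    · have hx : (((y : K) ^ 3 ^ m) ^ 3) ^ 3 ^ m = y := by
        rw [← pow_mul, ← pow_mul, show 3 ^ m * (3 * 3 ^ m) = 3 * (3 ^ m * 3 ^ m) by ring, pow_q hK]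
      exact (scale_ne hx (fun e => hne (Units.ext e)) h2).1 hy'
  obtain ⟨y, hy⟩ := (Finite.injective_iff_surjective.1 hinj) (Units.mk0 t ht)
  exact ⟨y, by have := congrArg Units.val hy; simpa [f, Units.val_div_eq_div_val] using this⟩

theorem layer_two (z : Kˣ) :
    ∃ y : Kˣ, (((y : K) ^ 3 ^ m) ^ 3 / (y : K)) = (z : K) ^ 2 := by
  refine ⟨z ^ (3 ^ (m + 1) + 1), ?_⟩
  have hz : (z : K) ≠ 0 := z.ne_zero
  have hq : ((z : K) ^ 3 ^ (m + 1)) ^ 3 ^ (m + 1) = (z : K) ^ 3 := by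
    rw [← pow_mul, ← pow_add, show m + 1 + (m + 1) = (2 * m + 1) + 1 by ring, pow_succ, pow_mul, ← hK,
      FiniteField.pow_card]
  rw [Units.val_pow_eq_pow_val, ← pow_mul _ (3 ^ m) 3, ← pow_succ, pow_succ (z : K), mul_pow, hq]
  field_simp

theorem two_generated (hm : 1 ≤ m) :
    ∃ a b : ↥(Cfsg.Lie.twistedG2 K (3 ^ m)), Subgroup.closure ({a, b} : Set ↥(Cfsg.Lie.twistedG2 K (3 ^ m))) = ⊤ := by
  classical
  obtain ⟨l, hl⟩ := IsCyclic.exists_generator (α := Kˣ)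
  set G := Cfsg.Lie.twistedG2 K (3 ^ m) with hG
  refine ⟨⟨hy m l, hy_mem hK l⟩, ⟨reeU m 1 0 0 * n0, mul_mem (reeU_mem m _ _ _) (n0_mem m)⟩,
    Subgroup.map_injective G.subtype_injective ?_⟩
  rw [MonoidHom.map_closure, ← MonoidHom.range_eq_map, Subgroup.range_subtype, Set.image_pair]
  set B := reeU m (1 : K) 0 0 * n0 with hB
  set M := Subgroup.closure ({hy m l, B} : Set (GL chevG2.Idx K)) with hM
  show M = G
  refine le_antisymm ((Subgroup.closure_le _).2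
    (Set.insert_subset (hy_mem hK l) (Set.singleton_subset_iff.2 (mul_mem (reeU_mem m _ _ _) (n0_mem m))))) ?_
  have hlM : hy m l ∈ M := Subgroup.subset_closure (by simp)
  have hBM : B ∈ M := Subgroup.subset_closure (by simp)
  let hyHom : Kˣ →* GL chevG2.Idx K := MonoidHom.mk' (hy m) fun a b => (hy_mul m a b).symm
  have hd : ∀ z, hy m z ∈ M := by
    intro z
    obtain ⟨k, rfl⟩ := Subgroup.mem_zpowers_iff.1 (hl z)
    show hyHom (l ^ k) ∈ M
    rw [map_zpow]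
    exact M.zpow_mem hlM k
  have hscale : ∀ (y : Kˣ) {t u v : K}, reeU m t u v ∈ M →
      reeU m (((y : K) ^ 2 / ((y : K) ^ 3 ^ m) ^ 3) * t) ((((y : K) ^ 3 ^ m) ^ 3 / y) * u) ((y : K) * v) ∈ M := by
    intro y t u v h
    have h1 := M.mul_mem (M.mul_mem (hd y) h) (M.inv_mem (hd y))
    rwa [hy_reeU hK, mul_inv_cancel_right] at h1
  have hpos : ∀ t u v : K, reeU m t u v ∈ chevG2.posUnipotent K ⊓ G := fun t u v =>
    (mem_pos_twisted hK _).2 ⟨_, _, _, rfl⟩
  have hl1 : (l : K) ≠ 1 ∧ (l : K) ≠ -1 := by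
    obtain ⟨y, hy1, hy2⟩ := exists_y hK hm
    obtain ⟨k, hk⟩ := Subgroup.mem_zpowers_iff.1 (hl y)
    constructor <;> intro e
    · rw [show l = 1 from Units.ext e, one_zpow] at hk
      exact hy1 (by rw [← hk]; rfl)
    · rw [show l = -1 from Units.ext (by simpa using e)] at hk
      rcases Int.even_or_odd k with he | ho
      · rw [he.neg_one_zpow] at hk; exact hy1 (by rw [← hk]; rfl)
      · rw [ho.neg_one_zpow] at hk; exact hy2 (by rw [← hk]; rfl)
  -- one element with non-trivial first coordinate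
  obtain ⟨t0, u0, v0, h0, ht0⟩ : ∃ t u v : K, reeU m t u v ∈ M ∧ t ≠ 0 := by
    have h1 := M.mul_mem (M.mul_mem (M.mul_mem hBM (hd l)) (M.inv_mem hBM)) (hd l)
    have e : B * hy m l * B⁻¹ * hy m l = reeU m 1 0 0 * (hy m l⁻¹ * reeU m 1 0 0 * (hy m l⁻¹)⁻¹)⁻¹ := by
      rw [hB, mul_inv_rev, n0_inv, hy_inv, inv_inv,
        show reeU m 1 0 0 * n0 * hy m l * (n0 * (reeU m 1 0 0)⁻¹) * hy m l =
          reeU m 1 0 0 * (n0 * hy m l * n0) * (reeU m 1 0 0)⁻¹ * hy m l by simp only [mul_assoc], n0_hy, ← hy_inv]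
      group
    rw [e, hy_reeU hK, mul_inv_cancel_right] at h1
    set A := (((l⁻¹ : Kˣ) : K) ^ 2 / (((l⁻¹ : Kˣ) : K) ^ 3 ^ m) ^ 3)
    obtain ⟨a, b, c, hab⟩ := (mem_pos_twisted hK _).1 (mul_mem (hpos 1 0 0) (inv_mem (hpos (A * 1) _ _)))
    refine ⟨a, b, c, hab ▸ h1, ?_⟩
    obtain ⟨e2, -⟩ := coords hK (eq_mul_inv_iff_mul_eq.1 hab.symm)
    intro ha
    rw [ha, zero_add, mul_one] at e2
    have hx : ((((l⁻¹ : Kˣ) : K) ^ 3 ^ m) ^ 3) ^ 3 ^ m = ((l⁻¹ : Kˣ) : K) := by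
      rw [← pow_mul, ← pow_mul, show 3 ^ m * (3 * 3 ^ m) = 3 * (3 ^ m * 3 ^ m) by ring, pow_q hK]
    refine (scale_ne hx ?_ ?_).1 e2.symm
    · rw [Units.val_inv_eq_inv_val, ne_eq, inv_eq_one]; exact hl1.1
    · rw [Units.val_inv_eq_inv_val, ne_eq, inv_eq_iff_eq_inv, inv_neg, inv_one]; exact hl1.2
  -- the centre
  have hV : ∀ v, reeU m 0 0 v ∈ M := by
    intro v
    by_cases hv : v = 0
    · rw [hv, reeU_zero]; exact M.one_mem
    set c := -((t0 ^ 3 ^ m) ^ 3 * t0 ^ 2)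
    have hc : c ≠ 0 := neg_ne_zero.2 (mul_ne_zero (pow_ne_zero _ (pow_ne_zero _ ht0)) (pow_ne_zero _ ht0))
    have h1 : reeU m 0 0 c ∈ M := by
      rw [← cube hK]; exact M.mul_mem (M.mul_mem h0 h0) h0
    have h2 := hscale (Units.mk0 (v / c) (div_ne_zero hv hc)) h1
    rwa [mul_zero, mul_zero, Units.val_mk0, div_mul_cancel₀ _ hc] at h2
  have hall : ∀ t, ∃ u v, reeU m t u v ∈ M := by
    intro t
    by_cases ht : t = 0
    · exact ⟨0, 0, by rw [ht, reeU_zero]; exact M.one_mem⟩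
    obtain ⟨y, hy⟩ := layer_one hK (div_ne_zero ht ht0)
    have := hscale y h0
    rw [hy, div_mul_cancel₀ _ ht0] at this
    exact ⟨_, _, this⟩
  -- the middle layer
  obtain ⟨δ, hδ0, hδ⟩ : ∃ δ, δ ≠ 0 ∧ reeU m 0 δ 0 ∈ M := by
    obtain ⟨u1, v1, h1⟩ := hall 1
    obtain ⟨u2, v2, h2⟩ := hall (l : K)
    obtain ⟨a, b, c, e1⟩ := (mem_pos_twisted hK _).1 (mul_mem (hpos 1 u1 v1) (hpos (l : K) u2 v2))
    obtain ⟨a', b', c', e2⟩ := (mem_pos_twisted hK _).1 (mul_mem (hpos (l : K) u2 v2) (hpos 1 u1 v1))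
    obtain ⟨p, q, r, e3⟩ := (mem_pos_twisted hK _).1 (mul_mem (inv_mem (hpos a' b' c')) (hpos a b c))
    have hmem : reeU m p q r ∈ M := by
      rw [← e3, ← e2, ← e1]
      exact M.mul_mem (M.inv_mem (M.mul_mem h2 h1)) (M.mul_mem h1 h2)
    obtain ⟨ea, eb⟩ := coords hK e1
    obtain ⟨ea', eb'⟩ := coords hK e2
    obtain ⟨ep, eq⟩ := coords hK (eq_inv_mul_iff_mul_eq.1 e3.symm)
    rw [one_pow, one_pow, one_mul] at eb'
    have hp : p = 0 := by linear_combination ea - ea' - ep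
    have he : (3 : ℕ) ^ m ≠ 0 := by positivity
    rw [hp, zero_pow he, zero_pow (by norm_num : (3 : ℕ) ≠ 0), zero_mul, neg_zero, zero_add] at eq
    refine ⟨q, fun hq => ?_, ?_⟩
    · have hx : (((l : K) ^ 3 ^ m) ^ 3) ^ 3 ^ m = (l : K) := by
        rw [← pow_mul, ← pow_mul, show 3 ^ m * (3 * 3 ^ m) = 3 * (3 ^ m * 3 ^ m) by ring, pow_q hK]
      refine (scale_ne hx hl1.1 hl1.2).2 ((div_eq_one_iff_eq l.ne_zero).2 ?_)
      rw [hq, add_zero] at eq
      linear_combination eb - eq - eb'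
    · subst hp
      have h3 := M.mul_mem hmem (hV (-r))
      rwa [reeU0_mul hK, add_zero, add_neg_cancel] at h3
  have hU0 : ∀ u v, reeU m 0 u v ∈ M := by
    let S : AddSubgroup K :=
      { carrier := {u | reeU m 0 u 0 ∈ M}
        add_mem' := fun {a c} ha hc => by
          show reeU m 0 (a + c) 0 ∈ M
          have := M.mul_mem ha hc
          rwa [reeU0_mul hK, add_zero] at this
        zero_mem' := by show reeU m 0 (0 : K) 0 ∈ M; rw [reeU_zero]; exact M.one_mem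
        neg_mem' := fun {a} ha => by
          show reeU m 0 (-a) 0 ∈ M
          have e : (reeU m 0 a 0)⁻¹ = reeU m 0 (-a) 0 := inv_eq_of_mul_eq_one_right (by
            rw [reeU0_mul hK, add_neg_cancel, add_zero, reeU_zero])
          rw [← e]; exact M.inv_mem ha }
    have hsq : ∀ x : K, δ * x ^ 2 ∈ S := by
      intro x
      by_cases hx : x = 0
      · subst hx; simp
      obtain ⟨y, hy⟩ := layer_two hK (Units.mk0 x hx)
      have := hscale y hδ
      rw [mul_zero, mul_zero, hy, Units.val_mk0, mul_comm] at this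
      exact this
    have h2 : (2 : K) ≠ 0 := fun e => one_ne_zero (show (1 : K) = 0 by
      linear_combination (CharP.cast_eq_zero K 3 : ((3 : ℕ) : K) = 0) - e)
    have h4 : (4 : K) ≠ 0 := by rw [show (4 : K) = 2 * 2 by norm_num]; exact mul_ne_zero h2 h2
    have hS : ∀ u, u ∈ S := by
      intro u
      have := S.sub_mem (hsq ((u / δ + 1) / 2)) (hsq ((u / δ - 1) / 2))
      convert this using 1
      field_simp
      ring
    intro u v
    have := M.mul_mem (hS u : reeU m 0 u 0 ∈ M) (hV v)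
    rwa [reeU0_mul hK, add_zero, zero_add] at this
  have hU : ∀ t u v, reeU m t u v ∈ M := by
    intro t u v
    obtain ⟨u', v', h1⟩ := hall t
    obtain ⟨a, b, c, e⟩ := (mem_pos_twisted hK _).1 (mul_mem (inv_mem (hpos t u' v')) (hpos t u v))
    obtain ⟨ea, -⟩ := coords hK (eq_inv_mul_iff_mul_eq.1 e.symm)
    have ha : a = 0 := by linear_combination -ea
    subst ha
    rw [show reeU m t u v = reeU m t u' v' * reeU m 0 b c by rw [← e, mul_inv_cancel_left]]
    exact M.mul_mem h1 (hU0 b c)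
  have hn : (n0 : GL chevG2.Idx K) ∈ M := by
    have := M.mul_mem (M.inv_mem (hU 1 0 0)) hBM
    rwa [hB, inv_mul_cancel_left] at this
  rw [hG, twisted_eq_closure, Subgroup.closure_le]
  rintro g ⟨t, u, v, rfl | rfl⟩
  · exact hU t u v
  · exact M.mul_mem (M.mul_mem hn (hU t u v)) hn

end Cfsg.Agent.Lib.ReeTwoGen49
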